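import Cfsg.Agent.Fix4.Act
import Cfsg.Agent.Solv.HaradaE8c
import Cfsg.Agent.Solv.FourGen
import Cfsg.Agent.S1235
import Cfsg.Agent.S3224

/-! Two-groups acting so that non-identity elements fix at most four points. -/

set_option autoImplicit false

namespace Cfsg.Lib.Fix4

open Subgroup Cfsg.Lib.Trans MulAction Cfsg.Lib.Solv.PG

theorem exists_notMem {G : Type*} [Group G] [Finite G] {H : Subgroup G} (s : Finset G)
    (h : s.card < Nat.card H) : ∃ x ∈ H, x ∉ s := by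
  by_contra hn
  push Not at hn
  have := Set.ncard_le_ncard (show (H : Set G) ⊆ s from hn)
  rw [Set.ncard_coe_finset] at this
  exact absurd h (not_lt.2 this)

set_option synthInstance.maxSize 2000 in
set_option synthInstance.maxHeartbeats 200000 in
theorem s4_cent : ∀ a b c : Equiv.Perm (Fin 4), a ≠ 1 → b ≠ 1 → b ≠ a → a * a = 1 → b * b = 1 →
    a * b = b * a → c * a = a * c → c * b = b * c → c = 1 ∨ c = a ∨ c = b ∨ c = a * b := by
  decide +kernel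

theorem s4_mem {H : Subgroup (Equiv.Perm (Fin 4))} (h : ∀ a ∈ H, a ^ 2 = 1) (h2 : 2 < Nat.card H)
    {c : Equiv.Perm (Fin 4)} (hc : ∀ a ∈ H, c * a = a * c) : c ∈ H ∧ Nat.card H ≤ 4 := by
  classical
  obtain ⟨a, ha, ha'⟩ := exists_notMem (H := H) {1} (by rw [Finset.card_singleton]; omega)
  obtain ⟨b, hb, hb'⟩ := exists_notMem (H := H) {1, a} (Finset.card_le_two.trans_lt h2)
  simp only [Finset.mem_insert, Finset.mem_singleton, not_or] at ha' hb'
  have key : ∀ c, (∀ a ∈ H, c * a = a * c) → c = 1 ∨ c = a ∨ c = b ∨ c = a * b := fun c hc =>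
    s4_cent a b c ha' hb'.1 hb'.2 (sq a ▸ h a ha) (sq b ▸ h b hb) (mul_comm_of_sq_eq_one h ha hb) (hc a ha)
      (hc b hb)
  refine ⟨?_, not_lt.1 fun h4 => ?_⟩
  · rcases key c hc with rfl | rfl | rfl | rfl
    exacts [one_mem _, ha, hb, mul_mem ha hb]
  · obtain ⟨d, hd, hd'⟩ := exists_notMem (H := H) {1, a, b, a * b} (Finset.card_le_four.trans_lt h4)
    exact hd' (by simpa using key d fun e he => mul_comm_of_sq_eq_one h hd he)

theorem s4_secRank : SectionalPRankLE 2 2 (Equiv.Perm (Fin 4)) := by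
  have : Fact (Nat.Prime 2) := ⟨Nat.prime_two⟩
  refine secRank_of_forall_isPGroup fun Q hQ => secRank_subgroup_iff.2 fun H K hH h1 h2 => ?_
  have h3 := card_mul_relIndex (inf_le_right : K ⊓ H ≤ H)
  rw [inf_relIndex_right] at h3
  by_cases h4 : K ⊓ H = ⊥
  · rw [h4, card_bot, one_mul] at h3
    rw [h3]
    by_contra h5
    exact h5 (s4_mem (c := 1) (fun a ha => (mem_bot.1 (h4 ▸ mem_inf.2 ⟨h2 a ha, pow_mem ha 2⟩)))
      (by omega) fun a _ => by rw [one_mul, mul_one]).2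
  · obtain ⟨k, hk⟩ := IsPGroup.exists_card_eq (hQ.to_le hH)
    have h5 := pow_le_of_dvd (c := 3) (m := 3) Nat.prime_two (hk ▸ (card_subgroup_dvd_card H).trans
      (by rw [Nat.card_perm, Nat.card_eq_fintype_card, Fintype.card_fin]; rfl)) (by decide)
    have h6 := (one_lt_card_iff_ne_bot _).2 h4
    rw [← hk, ← h3] at h5
    nlinarith

variable {S : Type*} [Group S] [Finite S]

/-- An involution all of whose overgroups `E₈` are self-centralizing. -/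
theorem secRank_of_inv (hS : IsPGroup 2 S) {z : S} (hz : z ^ 2 = 1)
    (h : ∀ A : Subgroup S, z ∈ A → (∀ a ∈ A, a ^ 2 = 1) → Nat.card A = 8 →
      centralizer (A : Set S) ≤ A) : SectionalPRankLE 2 4 S := by
  have : Fact (Nat.Prime 2) := ⟨Nat.prime_two⟩
  have key : ∀ B : Subgroup S, z ∈ B → (∀ a ∈ B, a ^ 2 = 1) → 4 < Nat.card B →
      SectionalPRankLE 2 4 S := fun B hzB hB h4 => by
    obtain ⟨k, hk⟩ := IsPGroup.exists_card_eq (hS.to_subgroup B)
    obtain ⟨l, hl⟩ := IsPGroup.exists_card_eq (hS.to_subgroup (zpowers z))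
    have hk3 : 3 ≤ k := by
      by_contra h5
      have := Nat.pow_le_pow_right two_pos (show k ≤ 2 by omega)
      omega
    have hl3 : l ≤ 3 := by
      have := Nat.le_of_dvd two_pos (orderOf_dvd_of_pow_eq_one hz)
      rw [← Nat.card_zpowers, hl] at this
      by_contra h5
      have := Nat.pow_le_pow_right two_pos (show 3 ≤ l by omega)
      omega
    obtain ⟨K, hK, hK'⟩ := Sylow.exists_subgroup_card_pow_prime_le 2 (hk ▸ pow_dvd_pow 2 hk3)
      ((zpowers z).subgroupOf B) (by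
        rw [Nat.card_congr (subgroupOfEquivOfLe (zpowers_le.2 hzB)).toEquiv, hl]) hl3
    have h8 : Nat.card (K.map B.subtype) = 8 := by rw [card_subtype, hK]; rfl
    have h2 : ∀ a ∈ K.map B.subtype, a ^ 2 = 1 := fun a ha => hB a (map_subtype_le K ha)
    exact secRank_four_of_selfCentralizing hS h2 h8
      (h _ ⟨⟨z, hzB⟩, hK' (mem_zpowers z), rfl⟩ h2 h8)
  by_contra hn
  refine hn (secRank_four_of_normal_rank hS fun A hA h2 => not_lt.1 fun h4 => hn ?_)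
  by_cases hzA : z ∈ A
  · exact key A hzA h2 h4
  have hz' : z⁻¹ = z := inv_eq_of_mul_eq_one_left (sq z ▸ hz)
  have h5 := FT.BG4.relIndex_centralizer_le_card (H := A) (S := centralizer {z} ⊓ A) (v := z)
    fun a ha => by
      have ha' : a⁻¹ = a := inv_eq_of_mul_eq_one_left (sq a ▸ h2 a ha)
      have h6 := hA.conj_mem a ha z
      refine ⟨mem_centralizer_singleton_iff.2 ?_, ?_⟩
      · have h7 := mul_comm_of_sq_eq_one h2 ha h6
        rw [hz'] at h7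
        rw [commutatorElement_def, ha', hz']
        calc a * z * a * z * z = z⁻¹ * (z * a * z * a) * (z * z) := by group
          _ = z⁻¹ * (a * (z * a * z)) * (z * z) := by rw [h7]
          _ = z * (a * z * a * z) := by rw [← sq, hz, hz']; group
      · rw [commutatorElement_def, ha', mul_assoc, mul_assoc, ← mul_assoc z]
        exact mul_mem ha h6
  have h6 := card_mul_relIndex (inf_le_right : centralizer {z} ⊓ A ≤ A)
  rw [inf_relIndex_right] at h6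
  have hN : z ∈ normalizer ((centralizer {z} ⊓ A : Subgroup S) : Set S) :=
    centralizer_le_normalizer _ fun a ha => mem_centralizer_singleton_iff.1 ha.1
  refine key ((centralizer {z} ⊓ A) ⊔ zpowers z) (mem_sup_right (mem_zpowers z)) (fun a ha => ?_) ?_
  · obtain ⟨k, hk, n, rfl⟩ := (mem_sup_zpowers_iff hN).1 ha
    rw [((show Commute k z from mem_centralizer_singleton_iff.1 hk.1).zpow_right n).mul_pow,
      h2 k hk.2, ← zpow_natCast, ← zpow_mul, mul_comm n, zpow_mul, zpow_natCast, hz, one_zpow, one_mul]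
  · rw [card_sup_zpowers Nat.prime_two hN (fun h => hzA h.2) (hz ▸ one_mem _)]
    nlinarith

theorem exists_inv {W : Subgroup S} (h2 : ∀ a ∈ W, a ^ 2 = 1) {g : S}
    (hg : ∀ a ∈ W, g * a * g⁻¹ ∈ W) (hgg : g * g ∈ W) (h16 : Nat.card W = 16)
    (h4 : Nat.card (W ⊓ centralizer {g} : Subgroup S) ≤ 4) :
    Nat.card (W ⊓ centralizer {g} : Subgroup S) = 4 ∧ ∃ w ∈ W, (w * g) ^ 2 = 1 := by
  let φ : W →* S := MonoidHom.mk' (fun a => a * (g * a * g⁻¹)) fun a b => by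
    have := mul_comm_of_sq_eq_one h2 b.2 (hg a a.2)
    calc ((a * b : W) : S) * (g * (a * b : W) * g⁻¹) = a * (b * (g * a * g⁻¹)) * (g * b * g⁻¹) := by
          rw [coe_mul]; group
      _ = _ := by rw [this]; group
  have hφ : ∀ a, φ a = a * (g * a * g⁻¹) := fun _ => rfl
  have h1 : φ.ker ≤ (W ⊓ centralizer {g}).subgroupOf W := fun a ha => by
    refine ⟨a.2, mem_centralizer_singleton_iff.2 ?_⟩
    have h3 : (a : S) * (g * a * g⁻¹) = a * a := (MonoidHom.mem_ker.1 ha).trans (sq (a : S) ▸ h2 a a.2).symm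
    exact (mul_inv_eq_iff_eq_mul.1 (mul_left_cancel h3)).symm
  have h3 : φ.range ≤ W ⊓ centralizer {g} := by
    rintro _ ⟨a, rfl⟩
    refine ⟨mul_mem a.2 (hg a a.2), mem_centralizer_singleton_iff.2 ?_⟩
    have e1 := mul_comm_of_sq_eq_one h2 a.2 (hg a a.2)
    have e2 := mul_comm_of_sq_eq_one h2 a.2 hgg
    rw [hφ]
    calc a * (g * a * g⁻¹) * g = g * a * g⁻¹ * a * g := by rw [e1]
      _ = g * a * g⁻¹ * (a * (g * g)) * g⁻¹ := by group
      _ = g * (a * (g * a * g⁻¹)) := by rw [e2]; group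
  have h5 := φ.ker.card_mul_index
  have h6 := Trans.card_le_of_le h1
  have h7 := Trans.card_le_of_le h3
  rw [index_ker, h16] at h5
  rw [Nat.card_congr (subgroupOfEquivOfLe inf_le_left).toEquiv] at h6
  have h8 : 4 ≤ Nat.card φ.range := by nlinarith
  obtain ⟨w, hw⟩ : g * g ∈ φ.range := by
    rw [eq_of_le_of_card_ge h3 (h4.trans h8)]
    exact ⟨hgg, mem_centralizer_singleton_iff.2 (mul_assoc g g g)⟩
  refine ⟨by omega, w, w.2, ?_⟩
  calc (w * g : S) ^ 2 = w * (g * w * g⁻¹) * (g * g) := by rw [sq]; group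
    _ = 1 := by rw [← hφ, hw, ← sq, h2 _ hgg]

theorem uniq_of_four {X : Subgroup S} (h4 : Nat.card X = 4) {u x : S} (hu : u ∈ X)
    (hu2 : u ^ 2 ≠ 1) (hx : x ∈ X) (ho : orderOf x = 2) :
    X = zpowers u ∧ ∀ v ∈ X, v ^ 2 = 1 → v = 1 ∨ v = x := by
  have h1 : u ^ 4 = 1 := h4 ▸ congrArg Subtype.val (pow_card_eq_one' (x := (⟨u, hu⟩ : X)))
  have h2 : orderOf u = 4 := haveI : Fact (Nat.Prime 2) := ⟨Nat.prime_two⟩
    orderOf_eq_prime_pow (p := 2) (n := 1) hu2 h1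
  have h3 : X = zpowers u :=
    (eq_of_le_of_card_ge (zpowers_le.2 hu) (by rw [h4, Nat.card_zpowers, h2])).symm
  have key : ∀ v ∈ X, v ^ 2 = 1 → v = 1 ∨ v = u ^ 2 := fun v hv hv2 => by
    rw [h3, ← (isOfFinOrder_of_finite u).mem_powers_iff_mem_zpowers] at hv
    obtain ⟨k, rfl⟩ := hv
    have h5 : 4 ∣ k * 2 := h2 ▸ orderOf_dvd_of_pow_eq_one (by rw [pow_mul]; exact hv2)
    show u ^ k = 1 ∨ u ^ k = u ^ 2
    rw [← pow_mod_orderOf, h2]
    rcases (by omega : k % 4 = 0 ∨ k % 4 = 2) with h | h <;> rw [h]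
    exacts [Or.inl (pow_zero u), Or.inr rfl]
  refine ⟨h3, fun v hv hv2 => (key v hv hv2).imp_right fun e => e.trans ?_⟩
  refine ((key x hx (ho ▸ pow_orderOf_eq_one x)).resolve_left fun e => ?_).symm
  rw [e, orderOf_one] at ho
  omega

variable {Ω : Type*} [MulAction S Ω] [Finite Ω] {x y : S}

namespace Pair

variable (h : Pair Ω 2 4 ⊤ x y)
include h

omit [Finite S] in
theorem inf' {u : S} (h1 : u ∈ Kp Ω x) (h2 : u ∈ Kp Ω y) : u = 1 :=
  mem_bot.1 (h.inf ▸ mem_inf.2 ⟨⟨mem_top u, h1⟩, mem_top u, h2⟩)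

omit [Finite S] [Finite Ω] in
theorem eq' : Ms Ω x = Ms Ω y := by simpa using h.eq

omit [Finite S] [Finite Ω] in
theorem le' : Kp Ω y ≤ Ms Ω x := h.eq' ▸ Kp_le_Ms y

omit [Finite S] in
theorem comm' {a b : S} (ha : a ∈ Kp Ω x) (hb : b ∈ Kp Ω y) : a * b = b * a :=
  h.comm ⟨mem_top a, ha⟩ ⟨mem_top b, hb⟩

omit [Finite S] in
theorem cent' {u g : S} (hu : u ∈ Kp Ω x) (h1 : u ≠ 1) (hg : g * u = u * g) : g ∈ Ms Ω x :=
  h.bx.cent h.pg (mem_top u) hu h1 hg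

omit [Finite S] in
theorem mem_sup' {w : S} (hw : w ∈ Kp Ω x ⊔ Kp Ω y) : ∃ a ∈ Kp Ω x, ∃ b ∈ Kp Ω y, a * b = w :=
  (Solv.mem_sup_of_le_normalizer (H := Kp Ω y) (N := Kp Ω x)
    fun _ hb => centralizer_le_normalizer _ fun _ ha => h.comm' ha hb).1 hw

theorem of_uniq (hu : ∀ u ∈ Kp Ω x, u ^ 2 = 1 → u = 1 ∨ u = x)
    (hA : ∀ A : Subgroup S, (∀ a ∈ A, a ^ 2 = 1) → Nat.card A = 8 → ∀ u ∈ Kp Ω x,
      u ∈ centralizer (A : Set S) → u ^ 2 = 1) : SectionalPRankLE 2 4 S := by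
  obtain ⟨ψ, hψ⟩ := exists_fr h.bx.nf_eq.le
  refine secRank_of_inv (h.pg.of_equiv topEquiv) (h.bx.ord ▸ pow_orderOf_eq_one x)
    fun A hx h2 h8 c hc => ?_
  have hAM : A ≤ Ms Ω x := fun a ha => mem_Ms_of_comm (mul_comm_of_sq_eq_one h2 ha hx)
  have hc' : c ∈ Ms Ω x := mem_Ms_of_comm (hc x hx).symm
  let f := ψ.comp (inclusion hAM)
  have h3 := f.ker.card_mul_index
  have h4 : Nat.card f.ker ≤ 2 := by
    classical
    by_contra h5
    obtain ⟨a, ha, ha'⟩ := exists_notMem (H := f.ker) {1, ⟨x, hx⟩}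
      (Finset.card_le_two.trans_lt (not_le.1 h5))
    exact ha' (by
      rw [Finset.mem_insert, Finset.mem_singleton]
      exact (hu a ((hψ.ker _).1 ha) (h2 a a.2)).imp Subtype.ext Subtype.ext)
  rw [index_ker, h8] at h3
  obtain ⟨a, ha⟩ := (s4_mem (H := f.range) (c := ψ ⟨c, hc'⟩) (by
    rintro _ ⟨a, rfl⟩
    rw [← map_pow, show a ^ 2 = 1 from Subtype.ext (h2 a a.2), map_one]) (by nlinarith) (by
    rintro _ ⟨a, rfl⟩
    exact (map_mul ψ _ _).symm.trans ((congrArg ψ (Subtype.ext (hc a a.2).symm)).trans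
      (map_mul ψ _ _)))).1
  have h5 : (a : S)⁻¹ * c ∈ Kp Ω x := (hψ.ker ((inclusion hAM a)⁻¹ * (⟨c, hc'⟩ : Ms Ω x))).1 (by
    rw [map_mul, map_inv, ← ha]; exact inv_mul_cancel _)
  have h6 := hu _ h5 (hA A h2 h8 _ h5 (mul_mem (inv_mem fun b hb =>
    mul_comm_of_sq_eq_one h2 hb a.2) hc))
  rw [← mul_inv_cancel_left (a : S) c]
  exact mul_mem a.2 (h6.elim (fun e => e ▸ one_mem A) fun e => e ▸ hx)

theorem reg (h4 : 2 < Nat.card (Kp Ω y)) : Nat.card (Kp Ω y) = 4 ∧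
    ∀ c ∈ Ms Ω x, (∀ u ∈ Kp Ω y, c * u = u * c) → c ∈ Kp Ω x ⊔ Kp Ω y := by
  have : Fact (Nat.Prime 2) := ⟨Nat.prime_two⟩
  obtain ⟨ψ, hψ⟩ := exists_fr h.bx.nf_eq.le
  have hY : IsPGroup 2 (Kp Ω y) := h.pg.to_le le_top
  have semi : ∀ (u : Kp Ω y) j, ψ (inclusion h.le' u) j = j → u = 1 := fun u j hj => by
    by_contra h1
    obtain ⟨b, hb, hb'⟩ := hψ.full h.bx.nf_eq _ j hj
    obtain ⟨i, hi⟩ := hψ.pt b hb
    have h2 := (h.by'.sm hY u.2 u.2 (fun e => h1 (Subtype.ext e)) b).1 hb'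
    have h3 := hψ.card_two_fix h.le' hY (j := i) fun g hg => (hi g).2 (hg b h2)
    rw [(eq_bot_iff_forall (Kp Ω y ⊓ Kp Ω x)).2 fun v hv => h.inf' hv.2 hv.1, card_bot] at h3
    omega
  have inj : Function.Injective fun u : Kp Ω y => ψ (inclusion h.le' u) 0 := fun u v e => by
    refine (inv_mul_eq_one.1 (semi (v⁻¹ * u) 0 ?_)).symm
    rw [map_mul, map_mul, map_inv, map_inv, Equiv.Perm.mul_apply, Equiv.Perm.inv_eq_iff_eq]
    exact e
  have h5 := Nat.card_le_card_of_injective _ inj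
  rw [Nat.card_eq_fintype_card (α := Fin 4), Fintype.card_fin] at h5
  have h6 : Nat.card (Kp Ω y) = 4 := by
    obtain ⟨k, hk⟩ := IsPGroup.exists_card_eq hY
    have : 2 ∣ Nat.card (Kp Ω y) := hk ▸ dvd_pow_self 2 (by rintro rfl; omega)
    omega
  have surj := ((Nat.bijective_iff_injective_and_card _).2 ⟨inj, by
    rw [h6, Nat.card_eq_fintype_card, Fintype.card_fin]⟩).2
  have hcomm := IsPGroup.isMulCommutative_of_card_eq_prime_sq (p := 2) h6
  refine ⟨h6, fun c hc hcu => ?_⟩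
  obtain ⟨u, hu⟩ := surj (ψ ⟨c, hc⟩ 0)
  have h7 : (u : S)⁻¹ * c ∈ Kp Ω x := (hψ.ker ((inclusion h.le' u)⁻¹ * (⟨c, hc⟩ : Ms Ω x))).1 (by
    ext j
    obtain ⟨v, rfl⟩ := surj j
    have e : (⟨c, hc⟩ : Ms Ω x) * inclusion h.le' v = inclusion h.le' v * ⟨c, hc⟩ :=
      Subtype.ext (hcu v v.2)
    rw [map_mul, map_inv, Equiv.Perm.mul_apply, Equiv.Perm.one_apply,
      (Equiv.Perm.inv_eq_iff_eq).2]
    rw [← Equiv.Perm.mul_apply, ← map_mul, e, map_mul, Equiv.Perm.mul_apply, ← hu,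
      ← Equiv.Perm.mul_apply, ← Equiv.Perm.mul_apply, ← map_mul, ← map_mul, ← map_mul, ← map_mul,
      mul_comm' v u])
  rw [← mul_inv_cancel_left (u : S) c]
  exact mul_mem (mem_sup_right u.2) (mem_sup_left h7)

theorem half (h4 : 2 < Nat.card (Kp Ω y)) {g : S} (hg : g ∈ Ms Ω x) (hg' : g ∉ Kp Ω x ⊔ Kp Ω y) :
    Nat.card (Kp Ω y ⊓ centralizer {g} : Subgroup S) ≤ 2 := by
  have : Fact (Nat.Prime 2) := ⟨Nat.prime_two⟩
  obtain ⟨h1, h2⟩ := h.reg h4
  have := prime_mul_card_le_of_lt (h.pg.to_le (le_top : Kp Ω y ≤ ⊤))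
    (lt_of_le_not_ge (inf_le_left : Kp Ω y ⊓ centralizer {g} ≤ _) fun h3 =>
      hg' (h2 g hg fun u hu => (mem_centralizer_singleton_iff.1 (h3 hu).2).symm))
  omega

theorem elem (hx4 : Nat.card (Kp Ω x) = 4) (hy4 : Nat.card (Kp Ω y) = 4)
    (hx2 : ∀ u ∈ Kp Ω x, u ^ 2 = 1) (hy2 : ∀ u ∈ Kp Ω y, u ^ 2 = 1) : SectionalPRankLE 2 4 S := by
  have : Fact (Nat.Prime 2) := ⟨Nat.prime_two⟩
  have hS : IsPGroup 2 S := h.pg.of_equiv topEquiv
  have h16 : Nat.card (Kp Ω x ⊔ Kp Ω y : Subgroup S) = 16 := by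
    have := h.card_sup
    rwa [top_inf_eq, top_inf_eq, hx4, hy4] at this
  have hW2 : ∀ w ∈ Kp Ω x ⊔ Kp Ω y, w ^ 2 = 1 := fun w hw => by
    obtain ⟨a, ha, b, hb, rfl⟩ := h.mem_sup' hw
    rw [(show Commute a b from h.comm' ha hb).mul_pow, hx2 a ha, hy2 b hb, one_mul]
  have hWV : Kp Ω x ⊔ Kp Ω y ≤ Ms Ω x := sup_le (Kp_le_Ms x) h.le'
  by_cases hV : Ms Ω x ≤ Kp Ω x ⊔ Kp Ω y
  · refine Agent.S1235.secRank_of_e16 hS h16 hW2 fun Z hZ h4 => ?_
    by_cases h1 : Kp Ω x ⊓ Z = ⊥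
    · have h2 := Solv.card_sup_of_disjoint_of_le_normalizer (fun b hb => centralizer_le_normalizer _
        fun a ha => mul_comm_of_sq_eq_one hW2 (mem_sup_left ha) (hZ hb)) h1
      have h3 := Trans.card_le_of_le (sup_le le_sup_left hZ)
      rw [hx4] at h2
      omega
    · obtain ⟨⟨b, hb⟩, hb1⟩ := ne_bot_iff_exists_ne_one.1 h1
      exact ⟨b, hb.2, le_antisymm (fun c hc => hV (h.cent' hb.1 (fun e => hb1 (Subtype.ext e))
        (mem_centralizer_singleton_iff.1 hc))) fun c hc => mem_centralizer_singleton_iff.2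
          (mul_comm_of_sq_eq_one hW2 hc (hZ hb.2))⟩
  obtain ⟨g, hg, hg'⟩ := SetLike.not_le_iff_exists.1 hV
  obtain ⟨ψ, hψ⟩ := exists_fr h.bx.nf_eq.le
  have h32 : Nat.card (Ms Ω x) = 2 * Nat.card (Kp Ω x ⊔ Kp Ω y : Subgroup S) := by
    have h1 := hψ.card_two le_rfl (hS.to_subgroup _)
    have h2 := prime_mul_card_le_of_lt (hS.to_subgroup _) (lt_of_le_not_ge hWV hV)
    rw [inf_of_le_right (Kp_le_Ms x)] at h1
    omega
  have hmul := @mul_mem_of_card_eq_two_mul _ _ _ _ _ hWV h32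
  have hgy : g ∈ Ms Ω y := h.eq' ▸ hg
  have x2 := h.symm.half (by omega) hgy (sup_comm (Kp Ω x) _ ▸ hg')
  have y2 := h.half (by omega) hg hg'
  have hD : (Kp Ω x ⊔ Kp Ω y) ⊓ centralizer {g} ≤
      (Kp Ω x ⊓ centralizer {g}) ⊔ (Kp Ω y ⊓ centralizer {g}) := fun w hw => by
    obtain ⟨a, ha, b, hb, rfl⟩ := h.mem_sup' hw.1
    have e := mem_centralizer_singleton_iff.1 hw.2
    have e1 : a⁻¹ * (g * a * g⁻¹) = 1 := h.inf' (mul_mem (inv_mem ha) (conj_mem_Kp hg ha)) (by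
      rw [show a⁻¹ * (g * a * g⁻¹) = a⁻¹ * (g * (a * b)) * b⁻¹ * g⁻¹ by group, ← e,
        show a⁻¹ * (a * b * g) * b⁻¹ * g⁻¹ = b * (g * b⁻¹ * g⁻¹) by group]
      exact mul_mem hb (conj_mem_Kp hgy (inv_mem hb)))
    have e2 : a ∈ centralizer {g} := mem_centralizer_singleton_iff.2
      (eq_mul_inv_iff_mul_eq.1 (inv_mul_eq_one.1 e1))
    exact mul_mem (mem_sup_left ⟨ha, e2⟩) (mem_sup_right ⟨hb, (mul_mem_cancel_left e2).1 hw.2⟩)
  have hD' := Trans.card_le_of_le hD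
  replace hD' := hD'.trans_eq (Solv.card_sup_of_disjoint_of_le_normalizer (fun b hb =>
    centralizer_le_normalizer _ fun a ha => h.comm' ha.1 hb.1)
      ((eq_bot_iff_forall _).2 fun v hv => h.inf' hv.1.1 hv.2.1))
  obtain ⟨h4, w, hw, hw2⟩ := exists_inv hW2 (g := g) (fun w hw => by
    obtain ⟨a, ha, b, hb, rfl⟩ := h.mem_sup' hw
    rw [show g * (a * b) * g⁻¹ = g * a * g⁻¹ * (g * b * g⁻¹) by group]
    exact mul_mem (mem_sup_left (conj_mem_Kp hg ha)) (mem_sup_right (conj_mem_Kp hgy hb)))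
    (hmul hg hg hg' hg') h16 (by nlinarith)
  obtain ⟨⟨x0, hx0⟩, hx1⟩ := ne_bot_iff_exists_ne_one.1
    ((one_lt_card_iff_ne_bot (Kp Ω x ⊓ centralizer {g})).1 (by nlinarith))
  have hs : w * g ∉ Kp Ω x ⊔ Kp Ω y := fun e => hg' ((mul_mem_cancel_left hw).1 e)
  have hC : ∀ a ∈ Kp Ω x ⊔ Kp Ω y, a * (w * g) = w * g * a ↔ a ∈ centralizer {g} := fun a ha => by
    rw [mem_centralizer_singleton_iff, ← mul_assoc, mul_comm_of_sq_eq_one hW2 ha hw, mul_assoc,
      mul_assoc, mul_right_inj]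
  have hN : w * g ∈ normalizer (((Kp Ω x ⊔ Kp Ω y) ⊓ centralizer {g} : Subgroup S) : Set S) :=
    centralizer_le_normalizer _ fun a ha => (hC a ha.1).2 ha.2
  have hA2 : ∀ a ∈ (Kp Ω x ⊔ Kp Ω y) ⊓ centralizer {g} ⊔ zpowers (w * g), a ^ 2 = 1 := fun a ha => by
    obtain ⟨k, hk, n, rfl⟩ := (mem_sup_zpowers_iff hN).1 ha
    rw [((show Commute k (w * g) from (hC k hk.1).2 hk.2).zpow_right n).mul_pow,
      hW2 k hk.1, ← zpow_natCast, ← zpow_mul, mul_comm n, zpow_mul, zpow_natCast, hw2, one_zpow,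
      one_mul]
  have hsA : w * g ∈ (Kp Ω x ⊔ Kp Ω y) ⊓ centralizer {g} ⊔ zpowers (w * g) :=
    mem_sup_right (mem_zpowers _)
  refine secRank_four_of_selfCentralizing hS hA2 (by
    rw [card_sup_zpowers Nat.prime_two hN (fun h => hs h.1) (hw2 ▸ one_mem _), h4]) fun c hc => ?_
  by_cases hcW : c ∈ Kp Ω x ⊔ Kp Ω y
  · exact mem_sup_left ⟨hcW, (hC c hcW).1 (hc _ hsA).symm⟩
  · have h1 := hmul (h.cent' hx0.1 (fun e => hx1 (Subtype.ext e))
      (hc _ (mem_sup_left ⟨mem_sup_left hx0.1, hx0.2⟩)).symm) (mul_mem (hWV hw) hg) hcW hs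
    exact (mul_mem_cancel_right hsA).1 (mem_sup_left ⟨h1, (hC _ h1).1 (by
      rw [← mul_assoc (w * g) c, hc _ hsA])⟩)

/-- Four fixed points: sectional rank at most four. -/
theorem four : SectionalPRankLE 2 4 S := by
  classical
  have : Fact (Nat.Prime 2) := ⟨Nat.prime_two⟩
  have sq : ∀ {u : S}, orderOf u = 2 → u ^ 2 = 1 := fun hu => hu ▸ pow_orderOf_eq_one _
  rcases h.alt with h1 | ⟨s, hs⟩
  · obtain ⟨ψ, hψ⟩ := exists_fr h.bx.nf_eq.le
    obtain ⟨ψ', hψ'⟩ := exists_fr h.by'.nf_eq.le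
    refine secRank_of_ker (a := 2) (b := 2)
      (ψ.comp ((MonoidHom.id S).codRestrict _ fun g => h1 (mem_top g))) ?_ s4_secRank
    exact secRank_of_injective (ψ'.comp ((Subgroup.subtype _).codRestrict _
      fun g => h.eq' ▸ h1 (mem_top _))) ((injective_iff_map_eq_one _).2 fun g hg =>
        Subtype.ext (h.inf' ((hψ.ker _).1 g.2) ((hψ'.ker _).1 hg))) s4_secRank
  rw [top_inf_eq, top_inf_eq] at hs
  have hc : Nat.card (Kp Ω y) = Nat.card (Kp Ω x) := by rw [← hs, card_cj]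
  by_cases h2 : 2 < Nat.card (Kp Ω x)
  swap
  · have hu : ∀ u ∈ Kp Ω x, u = 1 ∨ u = x := fun u hu => by
      rw [← eq_of_le_of_card_ge (zpowers_le.2 (self_mem_Kp (Ω := Ω) x)) (by
        rw [Nat.card_zpowers, h.bx.ord]; omega), mem_zpowers_iff_mem_range_orderOf, h.bx.ord] at hu
      simpa [Finset.range_add_one, eq_comm, or_comm] using hu
    exact h.of_uniq (fun u hu' _ => hu u hu') fun A _ _ u hu' _ =>
      (hu u hu').elim (fun e => by rw [e, one_pow]) fun e => e ▸ sq h.bx.ord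
  obtain ⟨x4, cx⟩ := h.symm.reg h2
  have y4 := hc.trans x4
  by_cases hx2 : ∀ u ∈ Kp Ω x, u ^ 2 = 1
  · refine h.elem x4 y4 hx2 fun u hu => ?_
    rw [← hs, mem_cj] at hu
    have := hx2 _ hu
    rwa [show s⁻¹ * u * s = s⁻¹ * u * s⁻¹⁻¹ by rw [inv_inv], conj_pow, conj_eq_one_iff] at this
  push Not at hx2
  obtain ⟨u, hu, hu2⟩ := hx2
  have ux := (uniq_of_four x4 hu hu2 (self_mem_Kp x) h.bx.ord).2
  have uy := (uniq_of_four y4 (hs ▸ conj_mem_cj.2 hu) (by rwa [conj_pow, Ne, conj_eq_one_iff])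
    (self_mem_Kp y) h.by'.ord).2
  refine h.of_uniq ux fun A hA2 h8 v hv hvA => by_contra fun hv2 => ?_
  obtain ⟨c, hc, hc'⟩ := exists_notMem (H := A) {1, x, y, x * y}
    (Finset.card_le_four.trans_lt (by omega))
  have e := (uniq_of_four x4 hv hv2 (self_mem_Kp x) h.bx.ord).1
  obtain ⟨a, ha, b, hb, rfl⟩ := h.mem_sup' (sup_comm (Kp Ω y) _ ▸ cx c
    (h.eq' ▸ h.cent' hv (fun e => hv2 (by rw [e, one_pow])) (hvA c hc)) fun t ht => by
      rw [e] at ht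
      obtain ⟨k, rfl⟩ := ht
      exact (show Commute c v from hvA c hc).zpow_right k)
  have e1 := hA2 _ hc
  rw [(show Commute a b from h.comm' ha hb).mul_pow] at e1
  have e2 : a ^ 2 = 1 := h.inf' (pow_mem ha 2) (eq_inv_of_mul_eq_one_left e1 ▸ inv_mem (pow_mem hb 2))
  rw [e2, one_mul] at e1
  rcases ux a ha e2 with rfl | rfl <;> rcases uy b hb e1 with rfl | rfl <;> simp at hc'

end Pair

/-- At most three fixed points: dihedral or semidihedral. -/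
theorem Pair.dihedral {n : ℕ} (h : Pair Ω 2 n ⊤ x y) (hn : n ≤ 3) :
    (∃ m : ℕ, Nonempty (S ≃* DihedralGroup m)) ∨ IsQuasiDihedral S := by
  have : Fact (Nat.Prime 2) := ⟨Nat.prime_two⟩
  have hS : IsPGroup 2 S := h.pg.of_equiv topEquiv
  have key : ∀ z : S, nf Ω z = n → Nat.card (⊤ ⊓ Ms Ω z : Subgroup S) ≤
      2 * Nat.card (⊤ ⊓ Kp Ω z : Subgroup S) := fun z hz => by
    obtain ⟨ψ, hψ⟩ := exists_fr (x := z) (Ω := Ω) (by omega)
    obtain ⟨j, hj⟩ := hψ.small (hz ▸ hn)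
    exact Pair.inf_Kp (P := ⊤) (x := z) (Ω := Ω) ▸
      hψ.card_two_fix inf_le_right (hS.to_subgroup _) fun g _ => hj g
  obtain ⟨h1, h2, h3⟩ := h.small (key x h.bx.nf_eq) (key y h.by'.nf_eq)
  rw [← h2, top_inf_eq] at h1 h3
  rcases Agent.S3224.result hS x h.bx.ord h1 with h4 | h4 | h4
  exacts [Or.inl h4, Or.inr h4, Or.inl ⟨2, by
    have h5 : centralizer {x} = ⊤ := eq_top_of_card_eq _ (h1.trans h4.symm)
    have : Nontrivial S := Finite.one_lt_card_iff_nontrivial.1 (by omega)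
    have : IsKleinFour S := ⟨h4, (Monoid.exponent_eq_prime_iff Nat.prime_two).2 fun g hg =>
      orderOf_eq_prime (h3 g (h5 ▸ mem_top g)) hg⟩
    exact IsKleinFour.nonempty_mulEquiv⟩]

end Cfsg.Lib.Fix4
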